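import Cfsg.Prelude.Def_SporadicB
import Cfsg.Agent.AltDoubleCover.Anti
import Cfsg.Agent.CharactersDeep.SpinCover
import Cfsg.Agent.Schur.Basic
import Mathlib.GroupTheory.SpecificGroups.Alternating.Simple
import Mathlib.GroupTheory.SpecificGroups.Alternating.KleinFour

/-!
# Involutions in double covers of alternating groups
-/

set_option autoImplicit false
set_option linter.unusedSectionVars false

namespace CfsgLib.AltDoubleCoverInvol

open Equiv Equiv.Perm CfsgLib.AltDoubleCover

variable {G : Type*} [Group G] [Finite G] {n : ℕ}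

/-- A central double cover, not assumed perfect. -/
structure Cov (f : G →* alternatingGroup (Fin n)) (z : G) : Prop where
  surj : Function.Surjective f
  central : ∀ g, g * z = z * g
  ne : z ≠ 1
  sq : z * z = 1
  ker : ∀ g, f g = 1 → g = 1 ∨ g = z
  map_z : f z = 1

variable {f : G →* alternatingGroup (Fin n)} {z : G}

theorem Cov.eq_or (C : Cov f z) {g h : G} (e : f g = f h) : g = h ∨ g = h * z := by
  rcases C.ker (h⁻¹ * g) (by rw [map_mul, map_inv, e, inv_mul_cancel]) with h1 | h1
  · exact Or.inl (inv_mul_eq_one.1 h1).symm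
  · exact Or.inr (by rw [← h1, mul_inv_cancel_left])

theorem Cov.mul_z_sq (C : Cov f z) (g : G) : g * z * (g * z) = g * g := by
  rw [mul_assoc, ← mul_assoc z, ← C.central g, mul_assoc g z z, C.sq, mul_one]

theorem Cov.sq_eq_of_eq (C : Cov f z) {g h : G} (e : f g = f h) : g * g = h * h := by
  rcases C.eq_or e with rfl | rfl
  · rfl
  · exact C.mul_z_sq h

/-- Conjugate images have lifts with equal squares, when the squares are central. -/
theorem Cov.sq_eq_of_conj (C : Cov f z) {g h : G} (hg : f g * f g = 1) (e : IsConj (f g) (f h)) :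
    g * g = h * h := by
  obtain ⟨t, ht⟩ := isConj_iff.1 e
  obtain ⟨T, rfl⟩ := C.surj t
  have h1 : f (T * g * T⁻¹) = f h := by rw [map_mul, map_mul, map_inv, ht]
  rw [← C.sq_eq_of_eq h1, show T * g * T⁻¹ * (T * g * T⁻¹) = T * (g * g) * T⁻¹ by group]
  rcases C.ker (g * g) (by rw [map_mul, hg]) with h2 | h2
  · simp [h2]
  · rw [h2, C.central T, mul_inv_cancel_right]

/-- The double transposition `(0 1)(2 3)` and its companions. -/
def dt (hn : 4 ≤ n) : Perm (Fin n) :=
  swap ⟨0, by omega⟩ ⟨1, by omega⟩ * swap ⟨2, by omega⟩ ⟨3, by omega⟩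

theorem nodup_four (hn : 4 ≤ n) :
    [(⟨0, by omega⟩ : Fin n), ⟨1, by omega⟩, ⟨2, by omega⟩, ⟨3, by omega⟩].Nodup := by
  simp [Fin.ext_iff]

theorem dt_mem {a b c d : Fin n} (h : [a, b, c, d].Nodup) :
    swap a b * swap c d ∈ alternatingGroup (Fin n) := by
  simp only [List.nodup_cons, List.mem_cons, List.not_mem_nil, or_false, not_or] at h
  rw [mem_alternatingGroup, map_mul, sign_swap h.1.1, sign_swap h.2.2.1]
  rfl

theorem cycleType_dt {a b c d : Fin n} (h : [a, b, c, d].Nodup) :
    (swap a b * swap c d).cycleType = {2, 2} := by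
  simp only [List.nodup_cons, List.mem_cons, List.not_mem_nil, or_false, not_or] at h
  obtain ⟨⟨hab, hac, had⟩, ⟨hbc, hbd⟩, hcd, -⟩ := h
  have hd : Perm.Disjoint (swap a b) (swap c d) := by
    rw [Perm.disjoint_iff_disjoint_support, support_swap hab, support_swap hcd]
    simp [Ne.symm hac, Ne.symm had, Ne.symm hbc, Ne.symm hbd]
  rw [hd.cycleType_mul, (isCycle_swap hab).cycleType, (isCycle_swap hcd).cycleType,
    card_support_swap hab, card_support_swap hcd]
  rfl

theorem cycleType_of_invol (hn : n ≤ 7) {v : alternatingGroup (Fin n)} (hv : v * v = 1) (h1 : v ≠ 1) :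
    (v : Perm (Fin n)).cycleType = {2, 2} := by
  set p : Perm (Fin n) := (v : Perm (Fin n))
  have hp : p * p = 1 := congrArg Subtype.val hv
  have hone : p.cycleType ≠ 0 := fun h => h1 (Subtype.ext (cycleType_eq_zero.1 h))
  have hall : ∀ k ∈ p.cycleType, k = 2 := fun k hk => by
    have h2 : 2 ≤ k := two_le_of_mem_cycleType hk
    have h3 : k ∣ 2 := (dvd_of_mem_cycleType hk).trans (orderOf_dvd_of_pow_eq_one (by rw [sq, hp]))
    have := Nat.le_of_dvd (by norm_num) h3
    omega
  have hrep : p.cycleType = Multiset.replicate (Multiset.card p.cycleType) 2 :=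
    Multiset.eq_replicate.2 ⟨rfl, hall⟩
  have hs : Perm.sign p = 1 := mem_alternatingGroup.1 v.2
  rw [sign_of_cycleType] at hs
  have hsum : p.cycleType.sum = 2 * Multiset.card p.cycleType := by
    conv_lhs => rw [hrep, Multiset.sum_replicate, smul_eq_mul, mul_comm]
  have hle : p.cycleType.sum ≤ 7 := by
    rw [sum_cycleType]
    exact (Finset.card_le_univ _).trans (by simpa using hn)
  have hpos : 0 < Multiset.card p.cycleType := Multiset.card_pos.2 hone
  have hcard : Multiset.card p.cycleType = 2 := by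
    rw [hsum] at hs
    rcases (by omega : Multiset.card p.cycleType = 1 ∨ Multiset.card p.cycleType = 2 ∨
      Multiset.card p.cycleType = 3) with h | h | h
    · rw [h] at hs; exact absurd hs (by decide)
    · exact h
    · rw [h] at hs; exact absurd hs (by decide)
  rw [hrep, hcard]
  rfl

theorem isConj_dt {v : alternatingGroup (Fin n)} {a b c d : Fin n} (hd : [a, b, c, d].Nodup)
    (hv : (v : Perm (Fin n)).cycleType = {2, 2}) :
    IsConj v ⟨swap a b * swap c d, dt_mem hd⟩ := by
  obtain ⟨π, hπ⟩ := isConj_iff.1 (Equiv.Perm.isConj_iff_cycleType_eq.2 (hv.trans (cycleType_dt hd).symm))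
  have hd' := hd
  simp only [List.nodup_cons, List.mem_cons, List.not_mem_nil, or_false, not_or] at hd'
  obtain ⟨⟨hab, hac, had⟩, ⟨hbc, hbd⟩, hcd, -⟩ := hd'
  rcases Int.units_eq_one_or (sign π) with hs | hs
  · exact isConj_iff.2 ⟨⟨π, mem_alternatingGroup.2 hs⟩, Subtype.ext hπ⟩
  · refine isConj_iff.2 ⟨⟨swap a b * π, mem_alternatingGroup.2 (by rw [map_mul, hs, sign_swap hab]; rfl)⟩,
      Subtype.ext ?_⟩
    show swap a b * π * (v : Perm (Fin n)) * (swap a b * π)⁻¹ = swap a b * swap c d
    have hcomm : Perm.Disjoint (swap a b) (swap c d) := by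
      rw [Perm.disjoint_iff_disjoint_support, support_swap hab, support_swap hcd]
      simp [Ne.symm hac, Ne.symm had, Ne.symm hbc, Ne.symm hbd]
    rw [mul_inv_rev, swap_inv, show swap a b * π * (v : Perm (Fin n)) * (π⁻¹ * swap a b) =
      swap a b * (π * (v : Perm (Fin n)) * π⁻¹) * swap a b by group, hπ, ← mul_assoc, swap_mul_self,
      one_mul, hcomm.commute.eq]

/-- If one lift of a double transposition squares to one, lifts of the four-group commute. -/
theorem exists_commuting (C : Cov f z) (hn : 4 ≤ n) {W : G}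
    (hW : (f W : Perm (Fin n)).cycleType = {2, 2}) (hWW : W * W = 1) :
    ∃ (a b c d : Fin n) (U V : G), [a, b, c, d].Nodup ∧ (f U : Perm (Fin n)) = swap a b * swap c d ∧
      (f V : Perm (Fin n)) = swap a c * swap b d ∧ U * V = V * U := by
  set a : Fin n := ⟨0, by omega⟩
  set b : Fin n := ⟨1, by omega⟩
  set c : Fin n := ⟨2, by omega⟩
  set d : Fin n := ⟨3, by omega⟩
  have h1 : [a, b, c, d].Nodup := nodup_four hn
  have h2 : [a, c, b, d].Nodup := by simp [a, b, c, d, Fin.ext_iff]
  have h3 : [a, d, b, c].Nodup := by simp [a, b, c, d, Fin.ext_iff]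
  have hWsq : f W * f W = 1 := by rw [← map_mul, hWW, map_one]
  have key : ∀ {x y w t : Fin n} {L : G}, [x, y, w, t].Nodup → (f L : Perm (Fin n)) = swap x y * swap w t →
      L * L = 1 := by
    intro x y w t L hd hL
    refine (C.sq_eq_of_conj hWsq ?_).symm.trans hWW
    rw [show f L = ⟨swap x y * swap w t, dt_mem hd⟩ from Subtype.ext hL]
    exact isConj_dt hd hW
  obtain ⟨U, hU⟩ := C.surj ⟨_, dt_mem h1⟩
  obtain ⟨V, hV⟩ := C.surj ⟨_, dt_mem h2⟩
  have hU' : (f U : Perm (Fin n)) = swap a b * swap c d := congrArg Subtype.val hU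
  have hV' : (f V : Perm (Fin n)) = swap a c * swap b d := congrArg Subtype.val hV
  have hUV : (f (U * V) : Perm (Fin n)) = swap a d * swap b c := by
    rw [map_mul, Subgroup.coe_mul, hU', hV', (four_points h1).2.1]
  have e1 : U⁻¹ = U := inv_eq_of_mul_eq_one_right (key h1 hU')
  have e2 : V⁻¹ = V := inv_eq_of_mul_eq_one_right (key h2 hV')
  have e3 : (U * V)⁻¹ = U * V := inv_eq_of_mul_eq_one_right (key h3 hUV)
  rw [mul_inv_rev, e1, e2] at e3
  exact ⟨a, b, c, d, U, V, h1, hU', hV', e3.symm⟩

/-- In a perfect cover of degree at least five, lifts of double transpositions square to `z`. -/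
theorem sq_lift_eq (H : IsDoubleCover f z) (hn : 5 ≤ n) {W : G}
    (hW : (f W : Perm (Fin n)).cycleType = {2, 2}) : W * W = z := by
  have C : Cov f z := ⟨H.surj, H.central, H.ne, H.sq, H.ker, H.map_z⟩
  rcases H.ker (W * W) (by
    rw [map_mul]
    refine Subtype.ext ?_
    have : (f W : Perm (Fin n)) ^ 2 = 1 := by
      rw [← orderOf_dvd_iff_pow_eq_one, ← lcm_cycleType, hW]
      rfl
    rwa [sq] at this) with h | h
  · obtain ⟨a, b, c, d, U, V, hd, hU, hV, hc⟩ := exists_commuting C (by omega) hW h
    have := AltDoubleCover.anticomm H hn hd hU hV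
    rw [hc] at this
    exact absurd (mul_left_cancel (this.symm.trans (mul_one _).symm)) H.ne
  · exact h

/-- A cover with the central element outside a subgroup onto the quotient splits. -/
theorem isComplement_of_not_mem (C : Cov f z) (hZ : ∀ g, g ∈ Subgroup.center G ↔ g = 1 ∨ g = z)
    {L : Subgroup G} (hz : z ∉ L) (hsurj : ∀ v, ∃ l ∈ L, f l = v) :
    (Subgroup.center G).IsComplement' L := by
  refine Subgroup.isComplement'_of_disjoint_and_mul_eq_univ ?_ ?_
  · rw [disjoint_iff_inf_le]
    rintro x ⟨hx1, hx2⟩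
    rcases (hZ x).1 hx1 with rfl | rfl
    · exact Subgroup.mem_bot.2 rfl
    · exact absurd hx2 hz
  · refine Set.eq_univ_of_forall fun g => ?_
    obtain ⟨l, hl, hlg⟩ := hsurj (f g)
    rcases C.eq_or hlg.symm with rfl | rfl
    · exact ⟨1, one_mem _, g, hl, one_mul _⟩
    · exact ⟨z, (hZ z).2 (Or.inr rfl), l, hl, (C.central l).symm⟩

theorem mem_commutator_of_nonsplit (C : Cov f z) (hn : 4 ≤ n)
    (hZ : ∀ g, g ∈ Subgroup.center G ↔ g = 1 ∨ g = z)
    (hns : ∀ L : Subgroup G, ¬ (Subgroup.center G).IsComplement' L) : z ∈ commutator G := by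
  by_contra hz
  have hmap : (commutator G).map f = commutator (alternatingGroup (Fin n)) := by
    rw [commutator_def, commutator_def, Subgroup.map_commutator, Subgroup.map_top_of_surjective f C.surj]
  rcases (by omega : 5 ≤ n ∨ n = 4) with hn5 | rfl
  · have htop : commutator (alternatingGroup (Fin n)) = ⊤ := commutator_alternatingGroup_eq_top (by simpa using hn5)
    refine hns _ (isComplement_of_not_mem C hZ hz fun v => ?_)
    have : v ∈ (commutator G).map f := by rw [hmap, htop]; trivial
    exact this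
  · let t0 : alternatingGroup (Fin 4) := ⟨cyc 4 0, cyc_mem 0⟩
    obtain ⟨T, hT, hT3⟩ : ∃ T : G, f T = t0 ∧ T ^ 3 = 1 := by
      obtain ⟨T, hT⟩ := C.surj t0
      rcases C.ker (T ^ 3) (by rw [map_pow, hT]; exact Subtype.ext (cyc_cube 0)) with h | h
      · exact ⟨T, hT, h⟩
      · refine ⟨T * z, by rw [map_mul, C.map_z, mul_one, hT], ?_⟩
        rw [(show Commute T z from C.central T).mul_pow, h, pow_succ z 2, sq, ← mul_assoc, ← mul_assoc, C.sq,
          one_mul, C.sq]
    have hK : commutator (alternatingGroup (Fin 4)) = alternatingGroup.kleinFour (Fin 4) :=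
      (alternatingGroup.kleinFour_eq_commutator (by simp)).symm
    have hK4 : Nat.card (commutator (alternatingGroup (Fin 4))) = 4 := by
      rw [hK]; exact alternatingGroup.kleinFour_card_of_card_eq_four (by simp)
    have hnot : t0 ∉ commutator (alternatingGroup (Fin 4)) := by
      intro h
      have h4 := Subgroup.orderOf_dvd_natCard _ h
      have : orderOf t0 = 3 := orderOf_eq_prime (Subtype.ext (cyc_cube 0)) (by decide)
      rw [hK4, this] at h4
      omega
    refine hns (commutator G ⊔ Subgroup.zpowers T) (isComplement_of_not_mem C hZ ?_ fun v => ?_)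
    · intro h
      obtain ⟨h', hh', w, hw, he⟩ := Subgroup.mem_sup_of_normal_left.1 h
      obtain ⟨i, rfl⟩ := Subgroup.mem_zpowers_iff.1 hw
      have hi : t0 ^ i ∈ commutator (alternatingGroup (Fin 4)) := by
        have : f h' * t0 ^ i = 1 := by rw [← hT, ← map_zpow, ← map_mul, he, C.map_z]
        rw [eq_inv_of_mul_eq_one_right this]
        exact inv_mem (hmap ▸ Subgroup.mem_map_of_mem f hh')
      have h3 : (3 : ℤ) ∣ i := by
        by_contra h3
        obtain ⟨q, hq | hq⟩ : ∃ q : ℤ, i = 3 * q + 1 ∨ i = 3 * q + 2 := ⟨i / 3, by omega⟩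
        all_goals
          have h3' : t0 ^ (3 : ℤ) = 1 := by
            rw [show (3 : ℤ) = ((3 : ℕ) : ℤ) from rfl, zpow_natCast]; exact Subtype.ext (cyc_cube 0)
          rw [hq, zpow_add, zpow_mul, h3', one_zpow, one_mul] at hi
        · rw [zpow_one] at hi
          exact hnot hi
        · refine hnot ?_
          have := inv_mem hi
          rwa [← zpow_neg, show (-2 : ℤ) = -3 + 1 by norm_num, zpow_add, zpow_neg, h3', inv_one, one_mul,
            zpow_one] at this
      obtain ⟨q, rfl⟩ := h3
      rw [zpow_mul, show (3 : ℤ) = ((3 : ℕ) : ℤ) from rfl, zpow_natCast, hT3, one_zpow, mul_one] at he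
      exact hz (he ▸ hh')
    · have hdec : ∀ v : alternatingGroup (Fin 4), v * v = 1 ∨ t0⁻¹ * v * (t0⁻¹ * v) = 1 ∨ t0 * v * (t0 * v) = 1 := by
        decide
      have hsq : ∀ u : alternatingGroup (Fin 4), u * u = 1 → ∃ l ∈ commutator G ⊔ Subgroup.zpowers T, f l = u := by
        intro u hu
        have : u ∈ (commutator G).map f := by
          rw [hmap, hK]
          rcases eq_or_ne u 1 with rfl | h1
          · exact one_mem _
          · exact Subgroup.subset_closure (cycleType_of_invol (by norm_num) hu h1)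
        obtain ⟨l, hl, hlu⟩ := this
        exact ⟨l, Subgroup.mem_sup_left hl, hlu⟩
      have hTm : T ∈ commutator G ⊔ Subgroup.zpowers T := Subgroup.mem_sup_right (Subgroup.mem_zpowers T)
      rcases hdec v with h | h | h
      · exact hsq v h
      · obtain ⟨l, hl, hlu⟩ := hsq _ h
        exact ⟨T * l, mul_mem hTm hl, by rw [map_mul, hT, hlu, mul_inv_cancel_left]⟩
      · obtain ⟨l, hl, hlu⟩ := hsq _ h
        exact ⟨T⁻¹ * l, mul_mem (inv_mem hTm) hl, by rw [map_mul, map_inv, hT, hlu, inv_mul_cancel_left]⟩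

theorem perfect_of_mem (C : Cov f z) (hn : 5 ≤ n) (hz : z ∈ commutator G) : IsDoubleCover f z := by
  refine ⟨C.surj, C.central, C.ne, C.sq, C.ker, C.map_z, ?_⟩
  refine eq_top_iff.2 fun g _ => ?_
  have : f g ∈ (commutator G).map f := by
    rw [commutator_def, Subgroup.map_commutator, Subgroup.map_top_of_surjective f C.surj, ← commutator_def,
      commutator_alternatingGroup_eq_top (by simpa using hn)]
    trivial
  obtain ⟨l, hl, hlg⟩ := this
  rcases C.eq_or hlg.symm with rfl | rfl
  · exact hl
  · exact mul_mem hl hz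

end CfsgLib.AltDoubleCoverInvol
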